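import Groth.Agent.FibreFlat.LocusSp
import Groth.Agent.EtInvariance.Extend
import Groth.Agent.UnivInjMor.MonoUnram

/-!
Flatness at all points of a morphism of algebraic spaces; the image of the flat locus; closed immersions which are
flat, surjective and of finite presentation.
-/

set_option backward.isDefEq.respectTransparency false

universe u

open CategoryTheory CategoryTheory.Limits AlgebraicGeometry AlgSp Opposite
open Groth.Agent.AlgSpLib

namespace Groth.Agent.FlatLocusSp

open Groth.Agent.FibreFlat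

variable {S : Scheme.{u}}

theorem flat_iff_forall_flatAt {X Y : Sp S} (hX : IsAlgSpace X) (hY : IsAlgSpace Y) (f : X ⟶ Y) :
    LocP @Flat f ↔ ∀ x : Points X, IsFlatAtMor f x := by
  refine ⟨fun H x U V a b h u ha hb comm _ => ?_, fun H U V a b h ha hb comm => ?_⟩
  · have : Flat h.left := H a b h ha hb comm
    exact flatAt_of_flat _ u
  · exact Flat.of_stalkMap _ fun u => (isFlatAtMor_iff_chart hX hY ha hb comm u).1 (H _)

theorem isOpen_image_flatLocus {X Y Z : Sp S} (hX : IsAlgSpace X) (hY : IsAlgSpace Y) (hZ : IsAlgSpace Z)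
    (f : X ⟶ Y) (h : Y ⟶ Z) (hfp : LocP @LocallyOfFinitePresentation (f ≫ h))
    (hft : LocP @LocallyOfFiniteType h) : IsOpen (Points.map f '' {x | IsFlatAtMor f x}) := by
  obtain ⟨W, c, hce, hcs⟩ := hZ.atlas
  obtain ⟨V, b, k, hbe, hbs, hk⟩ := exists_chart_lift hY hZ h hce hcs
  obtain ⟨U, a, g, hae, has, hg⟩ := exists_chart_lift hX hY f hbe hbs
  have : LocallyOfFiniteType k.left := hft b c k hbe hce hk
  have : LocallyOfFinitePresentation (g.left ≫ k.left) := hfp a c (g ≫ k) hae hce (by
    rw [← Category.assoc, hg, Category.assoc, hk, Functor.map_comp, Category.assoc])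
  have : LocallyOfFinitePresentation g.left := LimDesc.lfp_of_comp g.left k.left
  have hflat := flat_flatOpen g.left
  have ho : IsOpen (g.left '' (flatOpen g.left : Set ↥U.left)) := by
    have := ((flatOpen g.left).ι ≫ g.left).isOpenMap.isOpen_range
    rwa [Scheme.Hom.comp_base, TopCat.coe_comp, Set.range_comp, Scheme.Opens.range_ι] at this
  have heq : Points.map f '' {x : Points X | IsFlatAtMor f x} =
      Points.ofPt b '' (g.left '' (flatOpen g.left : Set ↥U.left)) := by
    ext y
    constructor
    · rintro ⟨x, hx, rfl⟩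
      obtain ⟨u, rfl⟩ := ofPt_surjective has x
      refine ⟨_, ⟨u, (isFlatAtMor_iff_chart hX hY hae hbe hg u).1 hx, rfl⟩, ?_⟩
      rw [Points.map_ofPt, hg, ofPt_comp]
    · rintro ⟨_, ⟨u, hu, rfl⟩, rfl⟩
      refine ⟨Points.ofPt a u, (isFlatAtMor_iff_chart hX hY hae hbe hg u).2 hu, ?_⟩
      rw [Points.map_ofPt, hg, ofPt_comp]
  rw [heq]
  exact isOpenMap_ofPt (repWith_universallyOpen_of_etale hbe) _ ho

theorem lfp_of_comp {X Y Z : Sp S} (hZ : IsAlgSpace Z) {f : X ⟶ Y} {h : Y ⟶ Z}
    (hfp : LocP @LocallyOfFinitePresentation (f ≫ h)) (hft : LocP @LocallyOfFiniteType h) :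
    LocP @LocallyOfFinitePresentation f :=
  locP_cancel etST_lfp (Q := @LocallyOfFiniteType) (g := h) (fun _ _ _ r t ht hrt => by
    have : LocallyOfFiniteType t := ht
    have : LocallyOfFinitePresentation (r ≫ t) := hrt
    exact LimDesc.lfp_of_comp r t) hZ hfp hft

theorem isIso_of_closed_flat_surjective {X Y : Sp S} (hX : IsAlgSpace X) (hY : IsAlgSpace Y) (f : X ⟶ Y)
    (hc : RepWith @IsClosedImmersion f) (hfl : LocP @Flat f) (hfp : LocP @LocallyOfFinitePresentation f)
    (hs : IsSurjectiveMor f) : IsIso f := by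
  obtain ⟨hm, hl, -⟩ := UnivInjMor.closedImmersion_props hX hY f hc
  have hu := UnivInjMor.unramified_of_mono hX hY f hl
  have he : LocP @Etale f := fun U V a b h ha hb comm => by
    have : Flat h.left := hfl a b h ha hb comm
    have : LocallyOfFinitePresentation h.left := hfp a b h ha hb comm
    have : FormallyUnramified h.left := (hu a b h ha hb comm).2
    exact Etale.of_formallyUnramified_of_flat (f := h.left)
  exact EtInvariance.isIso_of_openImm_surjective hX hY f
    (repWith_isOpenImmersion_of_mono hX hY f ((isEtaleMor_iff_locP hY).2 he)) hs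

/-- open subspaces have open image -/
theorem isOpen_range_of_openImm {X Y : Sp S} (hX : IsAlgSpace X) (hY : IsAlgSpace Y) (j : X ⟶ Y)
    (hj : RepWith @IsOpenImmersion j) : IsOpen (Set.range (Points.map j)) := by
  have hE := (isEtaleMor_iff_locP hY).1 (isEtaleMor_of_repWith' (repWith_mono (fun _ _ r hr => by
    have : IsOpenImmersion r := hr
    exact (inferInstance : Etale r)) hj))
  exact (isOpenMap_map_of_flat_lfp hX hY _ (fun A B a b c ha hb e => etST_flat.of_etale _ (hE a b c ha hb e))
    (fun A B a b c ha hb e => etST_lfp.of_etale _ (hE a b c ha hb e))).isOpen_range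

end Groth.Agent.FlatLocusSp
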